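import Cfsg.Agent.H116.RatB0.StAut
import Cfsg.Agent.H125.CY.Sum
import Cfsg.Agent.Characters.GaloisBasic

/-!
# S4829, lemma L5: the Steinberg character on a group of automorphisms (helper726)

`S` a simple group with a root group datum, `A` any group of automorphisms containing the inner ones, `p` a prime.

* `rowA_st_ell`   : `p` divides the index of every proper parabolic subgroup: the integer valued extension of the Steinberg
  character to `A` (`H116.StAut`) is a witness;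
* `rowA_st_torus` : there is a `p`-subgroup `Q₀` of the torus normalized by `N` with `C_S(Q₀) ≤ T`, and the rank is even: the
  same. (An element `a ∈ C_A(Q₀)` acts on the chambers fixed by `Q₀`, that is on `W`, by the right multiplication by an
  element which normalizes the set of the simple reflections, that is by `1` or the longest element.)
-/

set_option autoImplicit false
set_option linter.unusedSectionVars false

namespace Cfsg.Agent.H726.CY

open Cfsg CoxeterSystem Cfsg.Agent.ChevalleyStructure.CoxeterGeom Cfsg.Agent.Tits.Roots Cfsg.Agent.Tits.Core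
  Cfsg.Agent.Tits.Exchange Cfsg.Agent.Nodes.Reps Cfsg.Agent.Nodes.BNOf Cfsg.Agent.Nodes.StabComb
  Cfsg.Agent.Nodes.Bruhat Cfsg.Agent.Nodes.OppDec Cfsg.Agent.Nodes.LeviDec Cfsg.Agent.Nodes.NormalForm
  Cfsg.Agent.H116.RatB0 Cfsg.Agent.H116.TraceOrb Cfsg.Agent.H167.AltTrace Cfsg.Agent.H167.AltBldg
  Cfsg.Agent.H116.StAut Cfsg.Agent.H770.CY

universe u

/-! ### The Weyl group -/

section Weyl

variable {I W : Type*} [Fintype I] [DecidableEq I] [Group W] {M : CoxeterMatrix I}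
  {cs : CoxeterSystem M W} {A : I → I → ℤ} {h : IsCartan M A}

theorem mem_WJ_singleton {j : I} {w : W} (hw : w ∈ WJ cs ({j} : Set I)) : w = 1 ∨ w = cs.simple j := by
  unfold WJ at hw
  rw [Set.image_singleton, Subgroup.mem_closure_singleton] at hw
  obtain ⟨n, rfl⟩ := hw
  have h2 : cs.simple j ^ (2 : ℤ) = 1 := by
    rw [show (2 : ℤ) = ((2 : ℕ) : ℤ) from rfl, zpow_natCast, pow_two, cs.simple_mul_simple_self]
  rcases Int.even_or_odd' n with ⟨m, rfl | rfl⟩
  · left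
    rw [zpow_mul, h2, one_zpow]
  · right
    rw [zpow_add, zpow_mul, h2, one_zpow, one_mul, zpow_one]

theorem simple_inj (h : IsCartan M A) : Function.Injective cs.simple := H114.StRGD.simple_injective (h := h)

/-- an element which normalizes the set of the simple reflections is `1` or lies in no proper parabolic subgroup -/
theorem eq_one_or (h : IsCartan M A) (hconn : ∀ D : Set I, D.Nonempty → Dᶜ.Nonempty → ∃ i ∈ D, ∃ j ∈ Dᶜ, M i j ≠ 2)
    {w : W} {σ : I → I} (hw : ∀ i, w⁻¹ * cs.simple i * w = cs.simple (σ i)) :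
    w = 1 ∨ ∀ K : Set I, K ≠ Set.univ → w ∉ WJ cs K := by
  have hroot : ∀ i, IsRoot cs h (rep cs h w⁻¹ (sr i)) := fun i => ⟨w⁻¹, i, rfl⟩
  have hsupp : ∀ i k, k ≠ σ i → rep cs h w⁻¹ (sr i) k = 0 := by
    intro i k hk
    have h1 : rep cs h (cs.simple (σ i)) (rep cs h w⁻¹ (sr i)) = - rep cs h w⁻¹ (sr i) := by
      rw [← hw i, rep_mul_apply, rep_mul_apply, rep_apply_inv, rep_simple_sr, map_neg]
    have h2 := congrFun h1 k
    rw [rep_simple_apply cs h _ _ k hk, Pi.neg_apply] at h2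
    omega
  have hσ : Function.Injective σ := by
    intro i j hij
    have h1 := hw i
    rw [hij, ← hw j] at h1
    exact simple_inj h (mul_left_cancel (mul_right_cancel h1))
  by_cases hD0 : {i | rep cs h w⁻¹ (sr i) ≤ 0}.Nonempty
  · right
    by_cases hD1 : {i | rep cs h w⁻¹ (sr i) ≤ 0}ᶜ.Nonempty
    · exfalso
      obtain ⟨i, hi, j, hj, hij⟩ := hconn _ hD0 hD1
      have hi' : rep cs h w⁻¹ (sr i) ≤ 0 := hi
      have hj' : ¬ rep cs h w⁻¹ (sr j) ≤ 0 := hj
      have hj0 : 0 ≤ rep cs h w⁻¹ (sr j) := (hroot j).pos_or_neg.resolve_right hj'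
      have hne : i ≠ j := by
        rintro rfl
        exact hj' hi'
      have hA : A i j < 0 := cartan_neg h hne hij
      -- the root `s_i (α_j)`
      have hz : IsRoot cs h (rep cs h (w⁻¹ * cs.simple i) (sr j)) := ⟨_, j, rfl⟩
      have e : rep cs h (w⁻¹ * cs.simple i) (sr j) = rep cs h w⁻¹ (sr j) - A i j • rep cs h w⁻¹ (sr i) := by
        rw [rep_mul_apply, rep_simple_eq, map_sub, map_smul, sr, pairing_single, mul_one]
      have hbi : rep cs h w⁻¹ (sr i) (σ i) < 0 := by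
        refine lt_of_le_of_ne (hi' (σ i)) fun h0 => (hroot i).ne_zero ?_
        funext k
        by_cases hk : k = σ i
        · rw [hk]; exact h0
        · exact hsupp i k hk
      have hbj : 0 < rep cs h w⁻¹ (sr j) (σ j) := by
        refine lt_of_le_of_ne (hj0 (σ j)) fun h0 => (hroot j).ne_zero ?_
        funext k
        by_cases hk : k = σ j
        · rw [hk]; exact h0.symm
        · exact hsupp j k hk
      have hσij : σ i ≠ σ j := fun h0 => hne (hσ h0)
      have h1 : rep cs h (w⁻¹ * cs.simple i) (sr j) (σ i) < 0 := by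
        rw [e, Pi.sub_apply, Pi.smul_apply, hsupp j _ hσij, smul_eq_mul]
        have := mul_pos_of_neg_of_neg hA hbi
        omega
      have h2 : 0 < rep cs h (w⁻¹ * cs.simple i) (sr j) (σ j) := by
        rw [e, Pi.sub_apply, Pi.smul_apply, hsupp i _ hσij.symm, smul_zero, sub_zero]
        exact hbj
      rcases hz.pos_or_neg with h3 | h3
      · exact absurd (h3 (σ i)) (not_le.2 h1)
      · exact absurd (h3 (σ j)) (not_le.2 h2)
    · intro K hK hwK
      obtain ⟨i, hi⟩ := (Set.ne_univ_iff_exists_notMem K).1 hK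
      have h1 : i ∈ {i | rep cs h w⁻¹ (sr i) ≤ 0} := by
        by_contra h2
        exact hD1 ⟨i, h2⟩
      have h2 : rep cs h w⁻¹ (sr i) ∈ NotJ cs h K := NotJ.act (inv_mem hwK) (sr_mem_NotJ hi)
      exact h2.1.not_pos_neg h2.2.1 h1
  · left
    by_contra hw1
    have hw2 : w⁻¹ ≠ 1 := fun h0 => hw1 (inv_eq_one.1 h0)
    obtain ⟨i, hi⟩ := cs.exists_rightDescent_of_ne_one hw2
    exact hD0 ⟨i, nonpos_of_lt cs h w⁻¹ i hi⟩

end Weyl

/-! ### The chambers fixed by a regular subgroup of the torus -/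

section Fixed

variable {I W S : Type*} [Fintype I] [DecidableEq I] [Group W] [Group S] {M : CoxeterMatrix I}
  {cs : CoxeterSystem M W} {A : I → I → ℤ} {h : IsCartan M A} {r : ℕ} {T : Subgroup S} {n : I → S}
  {X : (I → ℤ) → Subgroup S} [Finite W] (R : RGD cs h r T n X)

include R in
theorem eq_one_of_U_T {u : S} (hu : u ∈ RGD.Sup X (RGD.Pos cs h)) (ht : u ∈ T) : u = 1 :=
  (normal_form_unique (cs := cs) (h := h) (X := X) R (w := 1) (u := u) (u' := 1) (k := 1) (k' := u) (v := 1) (v' := 1) hu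
    (one_mem _) rp_one (rp_of_mem ht) (one_mem _) (one_mem _) (by group)).1

variable {Q₀ : Subgroup S} (hQT : Q₀ ≤ T) (hC : Subgroup.centralizer (Q₀ : Set S) ≤ T)

include hQT hC in
theorem mk_eq_of_fixed (hG : GG cs h T X = ⊤) {g : S} (hg : ∀ q ∈ Q₀, g⁻¹ * q * g ∈ RGD.B cs h T X) :
    ∃ w k, Rp cs R.nsys w k ∧ (QuotientGroup.mk g : S ⧸ RGD.B cs h T X) = QuotientGroup.mk k := by
  have h1 : g⁻¹ ∈ GG cs h T X := hG ▸ Subgroup.mem_top _
  obtain ⟨w, hw⟩ := (mem_GG R).1 h1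
  obtain ⟨u, hu, k, hk, v, hv, e⟩ := exists_normal_form R hw
  have hvU : v ∈ RGD.Sup X (RGD.Pos cs h) :=
    RGD.Sup_mono (S := NW cs h w) (S' := RGD.Pos cs h) (fun x hx => ⟨hx.1, hx.2.1⟩) hv
  have huB : u ∈ RGD.B cs h T X := RGD.U_le_B hu
  have hkey : ∀ q ∈ Q₀, q⁻¹ * v * q = v := by
    intro q hq
    have h2 : k * v * q * v⁻¹ * k⁻¹ ∈ RGD.B cs h T X := by
      have h3 := hg q hq
      have e2 : g = (u * k * v)⁻¹ := by rw [← e, inv_inv]
      rw [e2] at h3
      have h4 := mul_mem (mul_mem (inv_mem huB) h3) huB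
      have e3 : u⁻¹ * ((u * k * v)⁻¹⁻¹ * q * (u * k * v)⁻¹) * u = k * v * q * v⁻¹ * k⁻¹ := by group
      rwa [e3] at h4
    obtain ⟨t, ht, b, hb, e4⟩ := R.mem_B.1 h2
    have hqT := hQT hq
    refine (normal_form_unique R (w := w) (u := 1) (u' := t * b * t⁻¹) (k := k * q) (k' := t * k)
      (v := q⁻¹ * v * q) (v' := v) (one_mem _)
      ((Subgroup.mem_normalizer_iff.1 (R.T_le_normalizer_U ht) b).1 hb) (hk.mul_mem_right hqT) ?_ ?_ hv ?_).2.2
    · have h5 := (rp_of_mem (cs := cs) (hN := R.nsys) ht).mul hk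
      rwa [one_mul] at h5
    · have h5 := (Subgroup.mem_normalizer_iff.1 (R.T_le_normalizer (S := NW cs h w) (fun x hx => hx.1)
        (inv_mem hqT)) v).1 hv
      rwa [inv_inv] at h5
    · have e5 : t * b * t⁻¹ * (t * k) * v = t * b * (k * v) := by group
      rw [e5, ← e4]
      group
  have hv1 : v = 1 := by
    refine eq_one_of_U_T R hvU (hC (Subgroup.mem_centralizer_iff.2 fun q hq => ?_))
    have h2 := hkey q hq
    calc q * v = q * (q⁻¹ * v * q) := by rw [h2]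
      _ = v * q := by group
  refine ⟨w⁻¹, k⁻¹, hk.inv, ?_⟩
  rw [QuotientGroup.eq, e, hv1]
  have e6 : u * k * 1 * k⁻¹ = u := by group
  rw [e6]
  exact huB

variable [Finite S] [Fact r.Prime] (hG : GG cs h T X = ⊤)

theorem act_smul' {a : MulAut S} {q : S} (hq : a q = q) (x : S ⧸ RGD.B cs h T X) :
    act R hG a (q • x) = q • act R hG a x := by
  induction x using QuotientGroup.induction_on with
  | _ x =>
    show act R hG a (QuotientGroup.mk (q * x)) = q • act R hG a (QuotientGroup.mk x)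
    rw [act_mk, act_mk]
    show (QuotientGroup.mk (a (q * x) * gel R hG a) : S ⧸ RGD.B cs h T X) =
      QuotientGroup.mk (q * (a x * gel R hG a))
    rw [map_mul, hq, mul_assoc]

include R hG hQT hC in
/-- the fixed chambers are the chambers of the apartment -/
theorem exists_of_fixed {x : S ⧸ RGD.B cs h T X} (hx : ∀ q ∈ Q₀, q • x = x) :
    ∃ w k, Rp cs R.nsys w k ∧ x = QuotientGroup.mk k := by
  induction x using QuotientGroup.induction_on with
  | _ x =>
    refine mk_eq_of_fixed R hQT hC hG fun q hq => ?_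
    have h1 : (QuotientGroup.mk (q * x) : S ⧸ RGD.B cs h T X) = QuotientGroup.mk x := hx q hq
    have h2 := QuotientGroup.eq.1 h1.symm
    rwa [← mul_assoc] at h2

include hQT in
theorem fixed_mk {v : W} {k : S} (hk : Rp cs R.nsys v k) {q : S} (hq : q ∈ Q₀) :
    q • (QuotientGroup.mk k : S ⧸ RGD.B cs h T X) = QuotientGroup.mk k := by
  show (QuotientGroup.mk (q * k) : S ⧸ RGD.B cs h T X) = QuotientGroup.mk k
  rw [eq_comm, QuotientGroup.eq]
  have h1 : k⁻¹ * q * k ∈ T := by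
    have h2 := (Subgroup.mem_normalizer_iff.1 hk.inv.mem_normalizer q).1 (hQT hq)
    rwa [inv_inv] at h2
  rw [← mul_assoc]
  exact RGD.T_le_B h1

include hQT hC in
/-- **an automorphism centralizing `Q₀` acts on the apartment by a right multiplication** -/
theorem exists_right (hQn : ∀ v k, Rp cs R.nsys v k → ∀ q ∈ Q₀, k * q * k⁻¹ ∈ Q₀) {a : MulAut S}
    (ha : ∀ q ∈ Q₀, a q = q) :
    ∃ w : W, ∀ v k, Rp cs R.nsys v k → ∃ k', Rp cs R.nsys (v * w) k' ∧
      act R hG a (QuotientGroup.mk k) = QuotientGroup.mk k' := by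
  have h1 : ∀ q ∈ Q₀, q • act R hG a (QuotientGroup.mk 1) = act R hG a (QuotientGroup.mk 1) := by
    intro q hq
    rw [← act_smul' R hG (ha q hq), fixed_mk R hQT rp_one hq]
  obtain ⟨w, k1, hk1, e1⟩ := exists_of_fixed R hQT hC hG h1
  refine ⟨w, fun v k hk => ⟨k * k1, hk.mul hk1, ?_⟩⟩
  rw [act_mk, map_one, one_mul] at e1
  have h2 : (gel R hG a)⁻¹ * k1 ∈ RGD.B cs h T X := QuotientGroup.eq.1 e1
  -- `a k = t k` with `t` in the torus
  have h3 : a k * k⁻¹ ∈ T := by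
    refine hC (Subgroup.mem_centralizer_iff.2 fun q hq => ?_)
    have h4 := hQn _ _ hk.inv q hq
    rw [inv_inv] at h4
    have h5 := ha _ h4
    rw [map_mul, map_mul, map_inv, ha q hq] at h5
    -- `(a k)⁻¹ q (a k) = k⁻¹ q k`
    have e2 : q * (a k * k⁻¹) = a k * ((a k)⁻¹ * q * a k) * k⁻¹ := by group
    rw [e2, h5]
    group
  have h6 : (k * k1)⁻¹ * (a k * k⁻¹) * (k * k1) ∈ RGD.B cs h T X := by
    have h7 := (Subgroup.mem_normalizer_iff.1 (hk.mul hk1).inv.mem_normalizer _).1 h3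
    rw [inv_inv] at h7
    exact RGD.T_le_B h7
  rw [act_mk, QuotientGroup.eq]
  have h8 := mul_mem h2 (inv_mem h6)
  have e3 : (gel R hG a)⁻¹ * k1 * ((k * k1)⁻¹ * (a k * k⁻¹) * (k * k1))⁻¹ =
      (a k * gel R hG a)⁻¹ * (k * k1) := by group
  rwa [e3] at h8

include R in
/-- `|U| ≡ 1` modulo `p` -/
theorem card_U_modEq {p : ℕ} [Fact p.Prime] (hQ : IsPGroup p Q₀) (hQT : Q₀ ≤ T)
    (hC : Subgroup.centralizer (Q₀ : Set S) ≤ T) : Nat.card (RGD.Sup X (RGD.Pos cs h)) ≡ 1 [MOD p] := by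
  have hn : ∀ q : Q₀, ∀ u ∈ RGD.Sup X (RGD.Pos cs h), (q : S) * u * (q : S)⁻¹ ∈ RGD.Sup X (RGD.Pos cs h) := fun q u hu =>
    (Subgroup.mem_normalizer_iff.1 (R.T_le_normalizer_U (hQT q.2)) u).1 hu
  let _ : MulAction Q₀ (RGD.Sup X (RGD.Pos cs h)) :=
    { smul := fun q u => ⟨(q : S) * u * (q : S)⁻¹, hn q u u.2⟩
      one_smul := by
        intro u
        apply Subtype.ext
        show ((1 : Q₀) : S) * (u : S) * ((1 : Q₀) : S)⁻¹ = u
        rw [Subgroup.coe_one]; group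
      mul_smul := by
        intro q q' u
        apply Subtype.ext
        show ((q * q' : Q₀) : S) * (u : S) * ((q * q' : Q₀) : S)⁻¹ = (q : S) * ((q' : S) * u * (q' : S)⁻¹) * (q : S)⁻¹
        rw [Subgroup.coe_mul]; group }
  have h1 := hQ.card_modEq_card_fixedPoints (RGD.Sup X (RGD.Pos cs h))
  have h2 : Nat.card (MulAction.fixedPoints Q₀ (RGD.Sup X (RGD.Pos cs h))) = 1 := by
    rw [Nat.card_eq_one_iff_unique]
    have key : ∀ u : RGD.Sup X (RGD.Pos cs h), u ∈ MulAction.fixedPoints Q₀ (RGD.Sup X (RGD.Pos cs h)) → u = 1 := by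
      intro u hu
      apply Subtype.ext
      refine eq_one_of_U_T R u.2 (hC (Subgroup.mem_centralizer_iff.2 fun q hq => ?_))
      have h3 : q * (u : S) * q⁻¹ = u := congrArg Subtype.val (hu ⟨q, hq⟩)
      exact mul_inv_eq_iff_eq_mul.1 h3
    constructor
    · constructor
      rintro ⟨u, hu⟩ ⟨v, hv⟩
      exact Subtype.ext ((key u hu).trans (key v hv).symm)
    · refine ⟨⟨1, fun q => Subtype.ext ?_⟩⟩
      show (q : S) * ((1 : RGD.Sup X (RGD.Pos cs h)) : S) * (q : S)⁻¹ = _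
      rw [Subgroup.coe_one]; group
  rwa [h2] at h1

end Fixed

/-! ### Counting modulo `p` -/

section Count

variable {I W S : Type*} [Fintype I] [DecidableEq I] [Group W] [Group S] {M : CoxeterMatrix I}
  {cs : CoxeterSystem M W} {A : I → I → ℤ} {h : IsCartan M A} {r : ℕ} {T : Subgroup S} {n : I → S}
  {X : (I → ℤ) → Subgroup S} [Finite W]

theorem modEq_of_eq {n a b : ℕ} (e : a = b) : a ≡ b [MOD n] := e ▸ rfl

/-- a `p`-group acting by isometries, commuting with `f`, fixing the base chamber: only the fixed chambers count -/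
theorem card_modEq {C : Type*} [Fintype C] (Δ : Bldg cs C) [MulAction S C]
    (hiso : ∀ (g : S) (x y : C), Δ.δ (g • x) (g • y) = Δ.δ x y) (c : C) {K : Finset I} (f : C → C)
    {p : ℕ} [Fact p.Prime] {Q : Subgroup S} (hQ : IsPGroup p Q) (hcomm : ∀ q ∈ Q, ∀ x, f (q • x) = q • f x)
    (hc : ∀ q ∈ Q, q • c = c) :
    Nat.card {x : C // K ⊆ (bSys Δ c).N x ∧ (bSys Δ c).r K x (f x)} ≡
      Nat.card {x : C // (∀ q ∈ Q, q • x = x) ∧ K ⊆ (bSys Δ c).N x ∧ (bSys Δ c).r K x (f x)} [MOD p] := by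
  classical
  have hN : ∀ q ∈ Q, ∀ x, (bSys Δ c).N (q • x) = (bSys Δ c).N x := by
    intro q hq x
    ext i
    rw [mem_N_bSys, mem_N_bSys]
    have h1 : Δ.δ c (q • x) = Δ.δ c x := by
      conv_lhs => rw [← hc q hq]
      exact hiso q c x
    rw [h1]
  have hmem : ∀ (q : Q) (x : {x : C // K ⊆ (bSys Δ c).N x ∧ (bSys Δ c).r K x (f x)}),
      K ⊆ (bSys Δ c).N ((q : S) • x.1) ∧ (bSys Δ c).r K ((q : S) • x.1) (f ((q : S) • x.1)) := by
    intro q x
    refine ⟨by rw [hN q q.2]; exact x.2.1, ?_⟩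
    have h1 := x.2.2
    rw [r_bSys] at h1 ⊢
    rw [hcomm q q.2, hiso]
    exact h1
  let _ : MulAction Q {x : C // K ⊆ (bSys Δ c).N x ∧ (bSys Δ c).r K x (f x)} :=
    { smul := fun q x => ⟨(q : S) • x.1, hmem q x⟩
      one_smul := by
        intro x
        apply Subtype.ext
        show ((1 : Q) : S) • x.1 = x.1
        rw [Subgroup.coe_one, one_smul]
      mul_smul := by
        intro q q' x
        apply Subtype.ext
        show ((q * q' : Q) : S) • x.1 = (q : S) • (q' : S) • x.1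
        rw [Subgroup.coe_mul, mul_smul] }
  have h1 := hQ.card_modEq_card_fixedPoints {x : C // K ⊆ (bSys Δ c).N x ∧ (bSys Δ c).r K x (f x)}
  refine h1.trans (modEq_of_eq (Nat.card_congr ?_))
  exact
    { toFun := fun x => ⟨x.1.1, fun q hq => congrArg Subtype.val (x.2 ⟨q, hq⟩), x.1.2⟩
      invFun := fun x => ⟨⟨x.1, x.2.2⟩, fun q => Subtype.ext (x.2.1 q q.2)⟩
      left_inv := fun x => rfl
      right_inv := fun x => rfl }

/-- the alternating sum, with a free permutation of the types -/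
noncomputable def cntσ {C : Type*} [Fintype C] (Δ : Bldg cs C) (c : C) (σ : Equiv.Perm I) (f : C → C) : ℤ :=
  ∑ U : Finset (Orb σ), (-1 : ℤ) ^ U.card *
    (Nat.card {x // un σ U ⊆ (bSys Δ c).N x ∧ (bSys Δ c).r (un σ U) x (f x)} : ℤ)

variable (R : RGD cs h r T n X) [Finite S] [Fact r.Prime] (hG : GG cs h T X = ⊤)
  [Fintype (S ⧸ RGD.B cs h T X)] (Δ : Bldg cs (S ⧸ RGD.B cs h T X))
  (hiso : ∀ (g : S) (x y : S ⧸ RGD.B cs h T X), Δ.δ (g • x) (g • y) = Δ.δ x y)
  (hδ : ∀ (a b k : S) (w : W), Rp cs R.nsys w k → (Δ.δ (QuotientGroup.mk a) (QuotientGroup.mk b) = w ↔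
        ∃ b₁ ∈ RGD.B cs h T X, ∃ b₂ ∈ RGD.B cs h T X, a⁻¹ * b = b₁ * k * b₂))

theorem cnt_eq (a : MulAut S) : cnt R hG Δ a = cntσ Δ (QuotientGroup.mk 1) (typHom R hG a) (act R hG a) := rfl

include hiso hδ in
/-- **the alternating sum at an element centralizing `Q₀`** -/
theorem cnt_cases (hconn : ∀ D : Set I, D.Nonempty → Dᶜ.Nonempty → ∃ i ∈ D, ∃ j ∈ Dᶜ, M i j ≠ 2)
    {p : ℕ} [Fact p.Prime] {Q₀ : Subgroup S} (hQ : IsPGroup p Q₀) (hQT : Q₀ ≤ T)
    (hQn : ∀ v k, Rp cs R.nsys v k → ∀ q ∈ Q₀, k * q * k⁻¹ ∈ Q₀) (hC : Subgroup.centralizer (Q₀ : Set S) ≤ T)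
    {a : MulAut S} (ha : ∀ q ∈ Q₀, a q = q) :
    (typHom R hG a = 1 ∧ cnt R hG Δ a ≡ cnt R hG Δ 1 [ZMOD p]) ∨
      cnt R hG Δ a ≡ (-1) ^ Fintype.card (Orb (typHom R hG a)) [ZMOD p] := by
  classical
  obtain ⟨w, hw⟩ := exists_right R hQT hC hG hQn ha
  have hdist : ∀ (v v' : W) (k k' : S), Rp cs R.nsys v k → Rp cs R.nsys v' k' →
      Δ.δ (QuotientGroup.mk k) (QuotientGroup.mk k') = v⁻¹ * v' := by
    intro v v' k k' hk hk'
    rw [hδ _ _ _ _ (hk.inv.mul hk')]
    exact ⟨1, one_mem _, 1, one_mem _, by group⟩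
  have hc1 : ∀ q ∈ Q₀, q • (QuotientGroup.mk 1 : S ⧸ RGD.B cs h T X) = QuotientGroup.mk 1 := fun q hq =>
    fixed_mk R hQT rp_one hq
  have hcomm : ∀ b : MulAut S, (∀ q ∈ Q₀, b q = q) → ∀ q ∈ Q₀, ∀ x, act R hG b (q • x) = q • act R hG b x :=
    fun b hb q hq x => act_smul' R hG (hb q hq) x
  -- the type permutation
  have hσ : ∀ i, w⁻¹ * cs.simple i * w = cs.simple (typHom R hG a i) := by
    intro i
    obtain ⟨k1, hk1, e1⟩ := hw 1 1 rp_one
    obtain ⟨k2, hk2, e2⟩ := hw (cs.simple i) (n i) (rp_simple cs R.nsys i)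
    have h1 : Δ.δ (QuotientGroup.mk 1) (QuotientGroup.mk (n i)) ∈ WJ cs (({i} : Finset I) : Set I) := by
      rw [hdist 1 (cs.simple i) 1 (n i) rp_one (rp_simple cs R.nsys i), inv_one, one_mul]
      exact Subgroup.subset_closure ⟨i, by simp, rfl⟩
    have h2 := (rel_iff R hG Δ hδ a {i} _ _).1 h1
    rw [e1, e2, hdist _ _ _ _ hk1 hk2, one_mul, Finset.map_singleton, Finset.coe_singleton, ← mul_assoc] at h2
    rcases mem_WJ_singleton h2 with h3 | h3
    · exfalso
      have h4 : cs.simple i = 1 := by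
        have h5 : cs.simple i = w * (w⁻¹ * cs.simple i * w) * w⁻¹ := by group
        rw [h5, h3]; group
      have h6 := cs.length_simple i
      rw [h4, cs.length_one] at h6
      exact zero_ne_one h6
    · exact h3
  rcases eq_one_or h hconn hσ with hw1 | hwK
  · left
    have ht : typHom R hG a = 1 := by
      ext i
      have h1 := hσ i
      rw [hw1, inv_one, one_mul, mul_one] at h1
      exact (simple_inj h h1).symm
    refine ⟨ht, ?_⟩
    rw [cnt_eq, cnt_eq, ht, map_one]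
    refine sum_modEq Finset.univ fun U _ => ?_
    refine Int.ModEq.mul_left _ ?_
    rw [Int.natCast_modEq_iff]
    refine (card_modEq Δ hiso (QuotientGroup.mk 1) (act R hG a) hQ (hcomm a ha) hc1).trans
      (Nat.ModEq.trans ?_ (card_modEq Δ hiso (QuotientGroup.mk 1) (act R hG 1) hQ (hcomm 1 fun q _ => rfl) hc1).symm)
    refine modEq_of_eq (Nat.card_congr (Equiv.subtypeEquivRight fun x => ?_))
    refine and_congr_right fun hx => and_congr_right fun _ => ?_
    obtain ⟨v, k, hk, rfl⟩ := exists_of_fixed R hQT hC hG hx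
    obtain ⟨k', hk', e⟩ := hw v k hk
    rw [hw1, mul_one] at hk'
    have h1 : (QuotientGroup.mk k' : S ⧸ RGD.B cs h T X) = QuotientGroup.mk k := by
      rw [eq_comm, QuotientGroup.eq]
      exact RGD.T_le_B (hk.unique hk')
    rw [e, h1, act_one]
  · right
    rw [cnt_eq]
    unfold cntσ
    set σ := typHom R hG a with hσ'
    have h1 : ∀ U : Finset (Orb σ), (-1 : ℤ) ^ U.card * (Nat.card {x // un σ U ⊆ (bSys Δ (QuotientGroup.mk 1)).N x ∧
        (bSys Δ (QuotientGroup.mk 1)).r (un σ U) x (act R hG a x)} : ℤ) ≡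
        (if U = Finset.univ then (-1) ^ Fintype.card (Orb σ) else 0) [ZMOD p] := by
      intro U
      by_cases hU : U = Finset.univ
      · rw [if_pos hU, card_fixed_univ Δ _ (by rw [hU, un_univ]) (act R hG a), hU, Finset.card_univ]
        simp
      · rw [if_neg hU, Int.modEq_zero_iff_dvd]
        apply Dvd.dvd.mul_left
        rw [Int.natCast_dvd_natCast]
        have hK : un σ U ≠ Finset.univ := fun h2 => hU (un_eq_univ h2)
        have h2 := card_modEq Δ hiso (QuotientGroup.mk 1) (K := un σ U) (act R hG a) hQ (hcomm a ha) hc1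
        rw [← Nat.modEq_zero_iff_dvd]
        refine h2.trans (modEq_of_eq ?_)
        rw [Nat.card_eq_zero]
        left
        constructor
        rintro ⟨x, hx, -, hx2⟩
        obtain ⟨v, k, hk, rfl⟩ := exists_of_fixed R hQT hC hG hx
        obtain ⟨k', hk', e⟩ := hw v k hk
        rw [r_bSys, e, hdist _ _ _ _ hk hk', inv_mul_cancel_left] at hx2
        exact hwK _ (fun h3 => hK (Finset.coe_eq_univ.1 h3)) hx2
    refine (sum_modEq Finset.univ fun U _ => h1 U).trans ?_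
    rw [Finset.sum_ite_eq' Finset.univ Finset.univ, if_pos (Finset.mem_univ _)]

end Count

section Ext

open Cfsg.Agent.KFacts.RgdOpp Cfsg.Agent.KFacts.RgdAut Cfsg.Agent.KFacts.RgdDiag Cfsg.Agent.H554.RG

variable {I W S : Type*} [Fintype I] [DecidableEq I] [Group W] [Group S] {M : CoxeterMatrix I}
  {cs : CoxeterSystem M W} {A : I → I → ℤ} {h : IsCartan M A} {r : ℕ} {T : Subgroup S} {n : I → S}
  {X : (I → ℤ) → Subgroup S}

/-- the value of the extended Steinberg character -/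
noncomputable def ev [Finite W] [Finite S] [Fact r.Prime] (R : RGD cs h r T n X) (hG : GG cs h T X = ⊤)
    [Fintype (S ⧸ RGD.B cs h T X)] (Δ : Bldg cs (S ⧸ RGD.B cs h T X)) (a : MulAut S) : ℤ :=
  ((Equiv.Perm.sign (typHom R hG a) : ℤˣ) : ℤ) * cnt R hG Δ a

/-- **The integer valued extension of the Steinberg character**, with the formula (after `H116.StAut.exists_ext_st`). -/
theorem exists_ext [Finite W] [Finite S] [Fact r.Prime] (R : RGD cs h r T n X) (hG : GG cs h T X = ⊤)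
    {A' : Type*} [Group A'] [Finite A'] (f : S →* A') (ψ : A' →* MulAut S) (hψ : ∀ s, ψ (f s) = MulAut.conj s) :
    ∃ (_ : Fintype (S ⧸ RGD.B cs h T X)) (Δ : Bldg cs (S ⧸ RGD.B cs h T X)),
      (∀ (g : S) (x y : S ⧸ RGD.B cs h T X), Δ.δ (g • x) (g • y) = Δ.δ x y) ∧
      (∀ (a b k : S) (w : W), Rp cs R.nsys w k → (Δ.δ (QuotientGroup.mk a) (QuotientGroup.mk b) = w ↔
        ∃ b₁ ∈ RGD.B cs h T X, ∃ b₂ ∈ RGD.B cs h T X, a⁻¹ * b = b₁ * k * b₂)) ∧
      IsIrrCharacter A' (fun a => ((ev R hG Δ (ψ a) : ℤ) : ℂ)) ∧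
      IsIrrCharacter S (fun s => ((ev R hG Δ (MulAut.conj s) : ℤ) : ℂ)) ∧
      ev R hG Δ 1 = Nat.card (RGD.Sup X (RGD.Pos cs h)) := by
  classical
  obtain ⟨Δ, hiso, htr, hδ⟩ := H167.SteinbergRGD.exists_bldg R (hgen_of_GG R hG)
  have : Fintype (S ⧸ RGD.B cs h T X) := Fintype.ofFinite _
  have : Fintype A' := Fintype.ofFinite _
  let _ := mact R hG ψ
  set c : S ⧸ RGD.B cs h T X := QuotientGroup.mk 1 with hc
  have hne : Nonempty (S ⧸ RGD.B cs h T X) := ⟨c⟩
  have hσ : ∀ (a : A') (K : Finset I) (x y : S ⧸ RGD.B cs h T X), (bSys Δ c).r K x y ↔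
      (bSys Δ c).r (K.map (typHom R hG (ψ a)).toEmbedding) (a • x) (a • y) := fun a K x y =>
    rel_iff R hG Δ hδ (ψ a) K x y
  have hmemA : ∀ (a : A') (v : S ⧸ RGD.B cs h T X → ℂ), v ∈ H167.SteinbergMod.Harm Δ →
      permRep ℂ A' (S ⧸ RGD.B cs h T X) a v ∈ H167.SteinbergMod.Harm Δ := by
    intro a v hv
    rw [← harm_bSys Δ c] at hv ⊢
    exact H116.TraceOrb.mem_harm (bSys Δ c) a _ (hσ a) v hv
  let ρ : Representation ℂ A' (H167.SteinbergMod.Harm Δ) :=
    { toFun := fun a => (permRep ℂ A' (S ⧸ RGD.B cs h T X) a).restrict (hmemA a)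
      map_one' := by ext; simp
      map_mul' := fun x y => by ext; simp }
  have htrace : ∀ a : A', ρ.character a = ((cnt R hG Δ (ψ a) : ℤ) : ℂ) := by
    intro a
    have h1 := H116.TraceOrb.trace_harm (bSys Δ c) a (typHom R hG (ψ a)) (hσ a)
    have h2 : ρ.character a = LinearMap.trace ℂ (bSys Δ c).harm
        ((permRep ℂ A' (S ⧸ RGD.B cs h T X) a).restrict (H116.TraceOrb.mem_harm (bSys Δ c) a _ (hσ a))) :=
      trace_congr (harm_bSys Δ c).symm (permRep ℂ A' (S ⧸ RGD.B cs h T X) a) (hmemA a) _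
    rw [h2, h1]
    unfold cnt
    push_cast
    rfl
  have hrestr : (ρ.comp f : Representation ℂ S (H167.SteinbergMod.Harm Δ)) = H167.SteinbergMod.stRep Δ hiso := by
    refine MonoidHom.ext fun k => LinearMap.ext fun v => Subtype.ext ?_
    funext x
    have h1 : (f k)⁻¹ • x = k⁻¹ • x := by
      show act R hG (ψ (f k)⁻¹) x = k⁻¹ • x
      rw [← map_inv f, hψ, act_conj]
    change (v : S ⧸ RGD.B cs h T X → ℂ) ((f k)⁻¹ • x) = (v : S ⧸ RGD.B cs h T X → ℂ) (k⁻¹ • x)
    rw [h1]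
  -- the apartments
  choose k hk using fun w : W => exists_rp cs R.nsys w
  have hap0 : ∀ v w, Δ.δ (QuotientGroup.mk (k v)) (QuotientGroup.mk (k w)) = v⁻¹ * w := by
    intro v w
    rw [hδ _ _ _ _ ((hk v).inv.mul (hk w))]
    exact ⟨1, one_mem _, 1, one_mem _, by group⟩
  have hapt : ∀ x y, Δ.Opp x y → ∃ a : W → S ⧸ RGD.B cs h T X,
      (∀ v w, Δ.δ (a v) (a w) = v⁻¹ * w) ∧ a 1 = x ∧ a (w0 cs) = y := by
    intro x y hxy
    have h1 : Δ.δ (QuotientGroup.mk (k 1)) (QuotientGroup.mk (k (w0 cs))) = Δ.δ x y := by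
      rw [hap0, inv_one, one_mul]
      exact hxy.symm
    obtain ⟨g, hg1, hg2⟩ := htr _ _ _ _ h1
    refine ⟨fun w => g • QuotientGroup.mk (k w), ?_, hg1, hg2⟩
    intro v w
    rw [hiso, hap0]
  have hirr : (H167.SteinbergMod.stRep Δ hiso).IsIrreducible := by
    refine H167.SteinbergMod.irreducible Δ hiso (QuotientGroup.mk (k 1)) (hapt _) ⟨QuotientGroup.mk (k (w0 cs)), ?_⟩ htr
    unfold Bldg.Opp
    rw [hap0, inv_one, one_mul]
  have hirrA : ρ.IsIrreducible := H691.StExt.isIrreducible_of_restrict ρ f (by rw [hrestr]; exact hirr)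
  have hres : ∀ s, (H167.SteinbergMod.stRep Δ hiso).character s = ((cnt R hG Δ (ψ (f s)) : ℤ) : ℂ) := by
    intro s
    rw [← htrace, ← hrestr]
    rfl
  have hsgn : ∀ s : S, Equiv.Perm.sign (typHom R hG (ψ (f s))) = 1 := by
    intro s
    rw [hψ, typHom_conj, map_one]
  refine ⟨inferInstance, Δ, hiso, hδ, ?_, ?_, ?_⟩
  · have h1 := Characters.Core.isIrrCharacter_of_rep _ hirrA
    have h2 := CharactersDeep.AbelianQuotient.isIrr_linear_mul ((Units.map (Int.castRingHom ℂ).toMonoidHom).comp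
      ((Equiv.Perm.sign (α := I)).comp ((typHom R hG).comp ψ))) h1
    convert h2 using 1
    funext a
    rw [Pi.mul_apply, htrace]
    unfold ev
    push_cast
    rfl
  · have h1 := Characters.Core.isIrrCharacter_of_rep _ hirr
    convert h1 using 1
    funext s
    rw [← hψ s]
    show ((((Equiv.Perm.sign (typHom R hG (ψ (f s))) : ℤˣ) : ℤ) * cnt R hG Δ (ψ (f s)) : ℤ) : ℂ) = _
    rw [hres, hsgn, Units.val_one, one_mul]
  · have h1 := hres 1
    rw [H167.SteinbergMod.character_eq Δ hiso c (hapt c) (one_smul S c),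
      H167.AltRGD.card_opp_fixed R Δ hδ (one_mem _)] at h1
    have h2 : Nat.card {u : RGD.Sup X (RGD.Pos cs h) // (u : S)⁻¹ * 1 * u ∈ T} =
        Nat.card (RGD.Sup X (RGD.Pos cs h)) :=
      Nat.card_congr ⟨fun u => u.1, fun u => ⟨u, by simp⟩, fun u => rfl, fun u => rfl⟩
    rw [h2, map_one] at h1
    have h3 := hsgn 1
    rw [map_one] at h3
    have h4 : ((Nat.card (RGD.Sup X (RGD.Pos cs h)) : ℤ)) = cnt R hG Δ (ψ 1) := by exact_mod_cast h1
    have h5 : (1 : MulAut S) = ψ 1 := (map_one ψ).symm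
    rw [h5]
    show ((Equiv.Perm.sign (typHom R hG (ψ 1)) : ℤˣ) : ℤ) * cnt R hG Δ (ψ 1) = _
    rw [h3, h4, Units.val_one, one_mul]

end Ext

/-! ### The witnesses -/

section Witness

/-- an integer valued character is `Cyc p` -/
theorem cyc_of_int {p : ℕ} {G : Type u} [Group G] [Finite G] {χ : G → ℂ} (hχ : IsCharacter G χ)
    (hint : ∀ g, ∃ z : ℤ, χ g = z) : Cyc p χ := by
  intro k hk _ g
  obtain ⟨σ, hσ⟩ := Characters.GaloisBasic.exists_ringEquiv_of_coprime hk
  rw [← hσ χ hχ g]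
  obtain ⟨z, hz⟩ := hint g
  rw [hz]
  exact map_intCast σ z

theorem isCharacter_of_irr {G : Type u} [Group G] {χ : G → ℂ} (hχ : IsIrrCharacter G χ) : IsCharacter G χ := by
  obtain ⟨n, ρ, -, e⟩ := hχ
  exact ⟨n, ρ, e⟩

theorem memLocalIdeal_of_modEq {p : ℕ} {M : Ideal AlgInt} (hM : IsPModular p M) {a b : ℤ} (hab : a ≡ b [ZMOD p]) :
    MemLocalIdeal M ((a : ℂ) - (b : ℂ)) := by
  have : M.IsMaximal := hM.2.1
  obtain ⟨c, hc⟩ := hab.symm.dvd
  have h1 : (p : AlgInt) * (c : AlgInt) ∈ M := M.mul_mem_right _ hM.2.2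
  have h2 := Blocks.Local.memLocalIdeal_of_mem h1
  have h3 : ((a : ℂ) - (b : ℂ)) = ((p : ℂ) * (c : ℂ)) := by exact_mod_cast congrArg (Int.cast : ℤ → ℂ) hc
  rw [h3]
  convert h2 using 1
  push_cast
  rfl

variable {S : Type u} [Group S] [Fintype S]

/-- **the witness from an integer valued function** -/
theorem witA_of_int {p : ℕ} {M : Ideal AlgInt} (hM : IsPModular p M) {A : Subgroup (MulAut S)}
    (hA : ∀ s : S, MulAut.conj s ∈ A) (e : MulAut S → ℤ)
    (h1 : IsIrrCharacter A (fun a : A => ((e (a : MulAut S) : ℤ) : ℂ)))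
    (h2 : IsIrrCharacter S (fun s => ((e (MulAut.conj s) : ℤ) : ℂ))) {m : ℕ} (hm : e 1 = m) (hm1 : m ≠ 1) (hpm : ¬ p ∣ m)
    (hloc : ∀ a ∈ A, ¬ p ∣ orderOf a → (∃ Q : Sylow p S, ∀ x ∈ Q, a x = x) → e a ≡ e 1 [ZMOD p]) :
    WitA p M S A hA (fun a : A => ((e (a : MulAut S) : ℤ) : ℂ)) := by
  refine H125.CY.witA_of_irr (isCharacter_of_irr h1) (cyc_of_int (isCharacter_of_irr h1) fun g => ⟨_, rfl⟩) ⟨m, ?_, hpm⟩
    ⟨_, h2⟩ ?_ (cyc_of_int (isCharacter_of_irr h2) fun g => ⟨_, rfl⟩) (fun s => rfl) ?_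
  · show ((e ((1 : A) : MulAut S) : ℤ) : ℂ) = m
    rw [Subgroup.coe_one, hm]
    push_cast
    rfl
  · intro h3
    have h4 := congrFun h3 1
    have h5 : ((e (MulAut.conj (1 : S)) : ℤ) : ℂ) = 1 := h4
    rw [map_one, hm] at h5
    have h6 : ((m : ℤ) : ℂ) = ((1 : ℤ) : ℂ) := by rw [h5, Int.cast_one]
    have h7 : (m : ℤ) = 1 := by exact_mod_cast h6
    exact hm1 (by exact_mod_cast h7)
  · intro a ha hQ
    have h3 : MemLocalIdeal M (((e (a : MulAut S) : ℤ) : ℂ) - ((e (1 : MulAut S) : ℤ) : ℂ)) := by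
      refine memLocalIdeal_of_modEq hM (hloc a a.2 ?_ hQ)
      rwa [Subgroup.orderOf_coe]
    exact h3

variable {I W : Type*} [Fintype I] [DecidableEq I] [Group W] {M : CoxeterMatrix I}
  {cs : CoxeterSystem M W} {A : I → I → ℤ} {h : IsCartan M A} {r : ℕ} {T : Subgroup S} {n : I → S}
  {X : (I → ℤ) → Subgroup S} [Finite W] [Fact r.Prime] [Nonempty I]

theorem card_U_ne_one (R : RGD cs h r T n X) : Nat.card (RGD.Sup X (RGD.Pos cs h)) ≠ 1 := by
  intro h1
  obtain ⟨i⟩ := (inferInstance : Nonempty I)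
  obtain ⟨u, hu, hu1⟩ := exists_ne_one R i
  have h2 : (1 : I → ℤ) = 1 := rfl
  have h3 : u ∈ RGD.Sup X (RGD.Pos cs h) :=
    RGD.le_Sup (S := RGD.Pos cs h) (z := sr i) ⟨⟨1, i, by rw [map_one]; rfl⟩, by
      intro k
      by_cases hk : k = i
      · rw [hk, sr_self]; exact zero_le_one
      · rw [sr_ne hk]; exact le_rfl⟩ hu
  rw [Nat.card_eq_one_iff_unique] at h1
  have h4 := h1.1
  exact hu1 (congrArg Subtype.val (Subsingleton.elim (⟨u, h3⟩ : RGD.Sup X (RGD.Pos cs h)) 1))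

/-- **(L5a)** `p` divides the index of every proper parabolic subgroup -/
theorem rowA_st_ell (R : RGD cs h r T n X) (hG : GG cs h T X = ⊤) {p : ℕ} [hp : Fact p.Prime] (hpr : p ≠ r)
    (hJ : ∀ J : Finset I, J ≠ Finset.univ → p ∣ (PJ cs h T X (J : Set I)).index) : RowA p S := by
  intro A' hA M hM
  obtain ⟨_, Δ, hiso, hδ, h1, h2, h3⟩ := exists_ext R hG ((MulAut.conj : S →* MulAut S).codRestrict A' hA.1)
    A'.subtype (fun _ => rfl)
  refine ⟨_, witA_of_int hM hA.1 (ev R hG Δ) h1 h2 h3 (card_U_ne_one R) ?_ ?_⟩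
  · obtain ⟨k, hk⟩ := IsPGroup.iff_card.1 R.isPGroup_Upos
    rw [hk]
    intro hd
    exact hpr ((Nat.prime_dvd_prime_iff_eq hp.out Fact.out).1 (hp.out.dvd_of_dvd_pow hd))
  · rintro a - - ⟨Q, hQ⟩
    have key : ∀ b : MulAut S, (∀ q ∈ Q, b q = q) → ev R hG Δ b ≡ (-1) ^ Fintype.card I [ZMOD p] := by
      intro b hb
      refine ((cnt_modEq R hG Δ hiso hδ hJ Q hb).mul_left _).trans ?_
      rw [sign_eq, ← pow_add, add_assoc, pow_add, ← two_mul, pow_mul (-1 : ℤ) 2]
      simp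
    exact (key a hQ).trans (key 1 (fun q _ => rfl)).symm

/-- **(L5b)** a regular `p`-subgroup `Q₀` of the torus, normalized by `N`; even rank -/
theorem rowA_st_torus (R : RGD cs h r T n X) (hG : GG cs h T X = ⊤)
    (hconn : ∀ D : Set I, D.Nonempty → Dᶜ.Nonempty → ∃ i ∈ D, ∃ j ∈ Dᶜ, M i j ≠ 2) (hev : Even (Fintype.card I))
    {p : ℕ} [hp : Fact p.Prime] {Q₀ : Subgroup S} (hQ : IsPGroup p Q₀) (hQT : Q₀ ≤ T)
    (hQn : ∀ v k, Rp cs R.nsys v k → ∀ q ∈ Q₀, k * q * k⁻¹ ∈ Q₀) (hC : Subgroup.centralizer (Q₀ : Set S) ≤ T) :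
    RowA p S := by
  intro A' hA M hM
  obtain ⟨_, Δ, hiso, hδ, h1, h2, h3⟩ := exists_ext R hG ((MulAut.conj : S →* MulAut S).codRestrict A' hA.1)
    A'.subtype (fun _ => rfl)
  have hU := card_U_modEq R hQ hQT hC
  refine ⟨_, witA_of_int hM hA.1 (ev R hG Δ) h1 h2 h3 (card_U_ne_one R) ?_ ?_⟩
  · intro hd
    have h4 := (Nat.modEq_zero_iff_dvd.2 hd).symm.trans hU
    have h5 := (Nat.modEq_zero_iff_dvd.1 h4.symm)
    exact hp.out.one_lt.ne' (Nat.dvd_one.1 h5)
  · rintro a ha - ⟨Q, hQa⟩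
    -- conjugate `Q` above `Q₀`
    obtain ⟨Q₁, hQ₁⟩ := hQ.exists_le_sylow
    obtain ⟨g, hg⟩ := MulAction.exists_smul_eq S Q Q₁
    have hb : ∀ q ∈ Q₀, (MulAut.conj g * a * (MulAut.conj g)⁻¹) q = q := by
      intro q hq
      have h4 : q ∈ ((g • Q : Sylow p S) : Subgroup S) := by
        rw [hg]
        exact hQ₁ hq
      rw [Sylow.coe_subgroup_smul, Subgroup.mem_pointwise_smul_iff_inv_smul_mem] at h4
      have h5 : a (g⁻¹ * q * g) = g⁻¹ * q * g := by
        refine hQa _ ?_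
        have e : g⁻¹ * q * g = (MulAut.conj g)⁻¹ • q := by
          rw [← map_inv]
          show g⁻¹ * q * g = MulAut.conj g⁻¹ q
          rw [MulAut.conj_apply, inv_inv]
        rw [e]
        exact h4
      have e1 : (MulAut.conj g * a * (MulAut.conj g)⁻¹) q = g * a (g⁻¹ * q * g) * g⁻¹ := by
        rw [← map_inv, MulAut.mul_apply, MulAut.mul_apply, MulAut.conj_apply, MulAut.conj_apply, inv_inv]
      rw [e1, h5]
      group
    have h4 : ev R hG Δ (MulAut.conj g * a * (MulAut.conj g)⁻¹) = ev R hG Δ a := by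
      have h5 := Characters.Core.isIrr_isClassFunction h1 ⟨a, ha⟩ ⟨MulAut.conj g, hA.1 g⟩
      exact_mod_cast h5
    rw [← h4]
    have hone : ev R hG Δ 1 ≡ 1 [ZMOD p] := by
      rw [h3]
      exact (Int.natCast_modEq_iff.2 hU)
    rcases cnt_cases R hG Δ hiso hδ hconn hQ hQT hQn hC hb with ⟨h5, h6⟩ | h5
    · have h7 : ev R hG Δ (MulAut.conj g * a * (MulAut.conj g)⁻¹) = cnt R hG Δ (MulAut.conj g * a * (MulAut.conj g)⁻¹) := by
        unfold ev
        rw [h5, Equiv.Perm.sign_one, Units.val_one, one_mul]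
      have h8 : ev R hG Δ 1 = cnt R hG Δ 1 := by
        unfold ev
        rw [map_one, Equiv.Perm.sign_one, Units.val_one, one_mul]
      rw [h7, h8]
      exact h6
    · refine Int.ModEq.trans ?_ hone.symm
      have h6 : ev R hG Δ (MulAut.conj g * a * (MulAut.conj g)⁻¹) ≡ (-1) ^ Fintype.card I [ZMOD p] := by
        refine (h5.mul_left _).trans ?_
        rw [sign_eq, ← pow_add, add_assoc, pow_add, ← two_mul, pow_mul (-1 : ℤ) 2]
        simp
      rwa [hev.neg_one_pow] at h6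

end Witness

end Cfsg.Agent.H726.CY
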