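import Cfsg.Agent.H726.CY.StA
import Cfsg.Agent.H35.ExcIdx
import Cfsg.Agent.OddHalf.NI.ModelChev

/-!
# S4829, `p ∣ q - 1`: the `p`-part of the torus is regular (helper726)

* `tp T hT p`        : the elements of `p`-power order of the commutative subgroup `T`;
* `centralizer_le_T` : `C_S(Q₀) ≤ T` from the root groups and the Weyl group;
* `centralizer_tp`   : the Chevalley groups, `p` odd, `p ∣ q - 1`, from a finite check on the Cartan integers;
* `rowA_d1`          : the row for `p ∣ q - 1`, even rank; `rowA_d1_E6`, `rowA_d1_E8`, `rowA_d1_F4`, `rowA_d1_G2`;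
* `tor_E7`           : `C_S(Q₀) ≤ T` for `E₇`.
-/

set_option autoImplicit false
set_option linter.unusedSectionVars false

namespace Cfsg.Agent.H726.CY

open Cfsg CoxeterSystem Cfsg.Agent.ChevalleyStructure.CoxeterGeom Cfsg.Agent.Tits.Roots Cfsg.Agent.Tits.Core
  Cfsg.Agent.Tits.Exchange Cfsg.Agent.Nodes.Reps Cfsg.Agent.Nodes.BNOf Cfsg.Agent.Nodes.StabComb
  Cfsg.Agent.Nodes.Bruhat Cfsg.Agent.Nodes.OppDec Cfsg.Agent.Nodes.LeviDec Cfsg.Agent.Nodes.NormalForm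
  Cfsg.Agent.H770.CY
open Cfsg.Agent.Nodes.RGDChev Cfsg.Agent.KFacts.RgdField Cfsg.Agent.KFacts.RgdChevCoord
open Cfsg.Lie Cfsg.Agent.ChevalleyStructure Cfsg.Agent.ChevalleyStructure.Elts
  Cfsg.Agent.ChevalleyStructure.NPerm Cfsg.Agent.ChevalleyStructure.CoxeterGeomTypes
open Cfsg.Agent.OddHalf.NI.ModelChev
open Cfsg.Agent.H35.ExcIdx (hpE6 hpE7 hpE8 hpF4 GG_eq_top)

universe u

section Generic

variable {S : Type*} [Group S]

/-- the elements of `p`-power order of a commutative subgroup -/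
def tp (T : Subgroup S) (hT : ∀ s ∈ T, ∀ t ∈ T, s * t = t * s) (p : ℕ) : Subgroup S where
  carrier := {t | t ∈ T ∧ ∃ k : ℕ, t ^ p ^ k = 1}
  one_mem' := ⟨one_mem _, 0, one_pow _⟩
  mul_mem' := by
    rintro s t ⟨hs, k, hk⟩ ⟨ht, l, hl⟩
    refine ⟨mul_mem hs ht, k + l, ?_⟩
    have hc : Commute s t := hT s hs t ht
    have h1 : s ^ p ^ (k + l) = 1 := by rw [pow_add, pow_mul, hk, one_pow]
    have h2 : t ^ p ^ (k + l) = 1 := by rw [add_comm, pow_add, pow_mul, hl, one_pow]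
    rw [hc.mul_pow, h1, h2, one_mul]
  inv_mem' := by
    rintro t ⟨ht, k, hk⟩
    exact ⟨inv_mem ht, k, by rw [inv_pow, hk, inv_one]⟩

theorem mem_tp {T : Subgroup S} {hT : ∀ s ∈ T, ∀ t ∈ T, s * t = t * s} {p : ℕ} {t : S} :
    t ∈ tp T hT p ↔ t ∈ T ∧ ∃ k : ℕ, t ^ p ^ k = 1 := Iff.rfl

theorem tp_le {T : Subgroup S} {hT : ∀ s ∈ T, ∀ t ∈ T, s * t = t * s} {p : ℕ} : tp T hT p ≤ T := fun _ ht => ht.1

theorem isPGroup_tp {T : Subgroup S} {hT : ∀ s ∈ T, ∀ t ∈ T, s * t = t * s} {p : ℕ} : IsPGroup p (tp T hT p) := by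
  rintro ⟨t, -, k, hk⟩
  exact ⟨k, Subtype.ext hk⟩

variable {I W : Type*} [Fintype I] [DecidableEq I] [Group W] {M : CoxeterMatrix I}
  {cs : CoxeterSystem M W} {A : I → I → ℤ} {h : IsCartan M A} {r : ℕ} {T : Subgroup S} {n : I → S}
  {X : (I → ℤ) → Subgroup S}

theorem tp_conj {hN : NSys M T n} {hT : ∀ s ∈ T, ∀ t ∈ T, s * t = t * s} {p : ℕ} {v : W} {k : S}
    (hk : Rp cs hN v k) {q : S} (hq : q ∈ tp T hT p) : k * q * k⁻¹ ∈ tp T hT p := by
  obtain ⟨h1, m, h2⟩ := hq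
  exact ⟨(Subgroup.mem_normalizer_iff.1 hk.mem_normalizer q).1 h1, m, by rw [conj_pow, h2]; group⟩

/-- `C_S(Q₀) ≤ T` -/
theorem centralizer_le_T [Finite W] (R : RGD cs h r T n X) (hG : GG cs h T X = ⊤) {Q₀ : Subgroup S} (hQT : Q₀ ≤ T)
    (hU : ∀ z, IsRoot cs h z → ∀ u ∈ X z, (∀ q ∈ Q₀, q * u * q⁻¹ = u) → u = 1)
    (hW : ∀ w k, Rp cs R.nsys w k → (∀ q ∈ Q₀, k * q * k⁻¹ = q) → w = 1) :
    Subgroup.centralizer (Q₀ : Set S) ≤ T := by
  intro g hg
  obtain ⟨u, hu, w, k, hk, hkc, v, hv, rfl⟩ := mem_centralizer R (S := (Q₀ : Set S)) hQT (hG ▸ Subgroup.mem_top g) hg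
  have hbot : RGD.Sup (fun x => X x ⊓ Subgroup.centralizer (Q₀ : Set S)) (RGD.Pos cs h) ≤ ⊥ := by
    refine RGD.Sup_le fun z hz a ha => ?_
    rw [Subgroup.mem_bot]
    refine hU z hz.1 a ha.1 fun q hq => ?_
    exact mul_inv_eq_iff_eq_mul.2 (Subgroup.mem_centralizer_iff.1 ha.2 q hq)
  have hu1 : u = 1 := Subgroup.mem_bot.1 (hbot hu)
  have hv1 : v = 1 := Subgroup.mem_bot.1 (hbot hv)
  have hw1 : w = 1 := hW w k hk fun q hq => by
    have h1 := Subgroup.mem_centralizer_iff.1 hkc q hq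
    rw [← h1, mul_inv_cancel_right]
  rw [hu1, hv1, one_mul, mul_one]
  rw [hw1] at hk
  exact hk.mem_of_one

end Generic

section Chev

variable {D : ChevalleyDatum} {l : ℕ} {M : CoxeterMatrix (Fin l)} (hp : IsType D l M) (K : Type u) [Field K]
  {W : Type*} [Group W] (cs : CoxeterSystem M W)

include hp in
theorem hT_chev : ∀ s ∈ TT D K, ∀ t ∈ TT D K, s * t = t * s := fun s hs t ht =>
  congrArg Subtype.val (comm_TT hp (K := K) ⟨s, hs⟩ ⟨t, ht⟩)

theorem hc_pow {m : ℕ} {ζ : Kˣ} (hζ : ζ ^ m = 1) (i : Fin l) : hc hp i (ζ : K) ^ m = 1 := by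
  have h1 : hcH hp i ζ ^ m = 1 := by rw [← map_pow, hζ, map_one]
  exact congrArg Subtype.val h1

include cs in
/-- **the `p`-part of the torus of a Chevalley group is regular** -/
theorem centralizer_tp [Finite K] [Finite W] {r : ℕ} [Fact r.Prime] [CharP K r] {p : ℕ} [hpp : Fact p.Prime]
    (hd : p ∣ Nat.card Kˣ) (hsU : ∀ s < D.nroots, ∃ i : Fin l, ¬ (p : ℤ) ∣ D.cartan i s) (J0 : Set (Fin l))
    (hsW : ∀ j ∈ J0, ∀ s < D.nroots, (∀ i : Fin l, (p : ℤ) ∣ D.cartan i s - D.cartan i (D.simple j)) → s = D.simple j)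
    (hJ0 : ∀ i, i ∈ J0 ∨ ∃ j ∈ J0, cartanOf D l i j = -1) :
    Subgroup.centralizer (tp (TT D K) (hT_chev hp K) p : Set ↥(D.group K)) ≤ TT D K := by
  have R := rgd (K := K) hp cs r
  have C := coords (K := K) hp cs r
  obtain ⟨ζ, hζ⟩ := exists_prime_orderOf_dvd_card' p hd
  have hζ1 : ζ ^ p ^ 1 = 1 := by rw [pow_one, ← hζ, pow_orderOf_eq_one]
  have hmem : ∀ i, hc hp i (ζ : K) ∈ tp (TT D K) (hT_chev hp K) p := fun i =>
    ⟨hc_mem hp i ζ.ne_zero, 1, hc_pow hp K hζ1 i⟩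
  have hval : ∀ i : Fin l, ∀ s < D.nroots, ch hp (vec D l s) (hc hp i (ζ : K)) = ((ζ ^ D.cartan i s : Kˣ) : K) := by
    intro i s hs
    rw [ch_hc hp i ζ.ne_zero hs, Units.val_zpow_eq_zpow_val]
  refine centralizer_le_T R (GG_eq_top hp K cs) tp_le ?_ ?_
  · intro z hz u hu hall
    obtain ⟨s, hs, rfl⟩ := (isRoot_iff hp cs z).1 hz
    obtain ⟨a, rfl⟩ := (Nodes.ChevCls.mem_XX hp hs u).1 hu
    obtain ⟨i, hi⟩ := hsU s hs
    have h1 := hall _ (hmem i)
    rw [(act hp hs (hc_mem hp i ζ.ne_zero)).2, hval i s hs] at h1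
    have h2 := xc_inj hp hs h1
    have h5 : a = 0 := by
      by_contra ha
      apply hi
      have h3 : ((ζ ^ D.cartan i s : Kˣ) : K) = 1 := by
        refine mul_right_cancel₀ ha ?_
        rw [h2, one_mul]
      have h4 : ζ ^ D.cartan i s = 1 := Units.ext h3
      rw [← hζ]
      exact orderOf_dvd_iff_zpow_eq_one.2 h4
    apply Subtype.ext
    rw [h5, coe_xc hp hs, xG_zero hp.inList s]
    rfl
  · intro w k hk hcen
    have h1 : ∀ z, IsRoot cs hp.isCartan z → ∀ t ∈ tp (TT D K) (hT_chev hp K) p,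
        ch hp (rep cs hp.isCartan w z) t = ch hp z t := by
      intro z hz t ht
      have h2 := C.chi_rp R.nsys hk hz (t := t) ht.1
      rwa [hcen t ht] at h2
    have h2 : ∀ j ∈ J0, ∀ v : W, rep cs hp.isCartan w (rep cs hp.isCartan v (sr j)) = rep cs hp.isCartan v (sr j) := by
      intro j hj v
      obtain ⟨g, hg⟩ := exists_rp cs R.nsys v
      have hr0 : IsRoot cs hp.isCartan (sr j) := isRoot_sr cs _ j
      have hr1 := hr0.act v
      have hr2 := hr1.act w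
      obtain ⟨s, hs, es⟩ := (isRoot_iff hp cs _).1 (hr2.act v⁻¹)
      have h3 : ∀ i : Fin l, (p : ℤ) ∣ D.cartan i s - D.cartan i (D.simple j) := by
        intro i
        have ht := hmem i
        have ht' := tp_conj hg ht
        have h5 := C.chi_rp R.nsys hg.inv hr2 (t := g * hc hp i (ζ : K) * g⁻¹) ht'.1
        have e5 : g⁻¹ * (g * hc hp i (ζ : K) * g⁻¹) * g⁻¹⁻¹ = hc hp i (ζ : K) := by group
        rw [e5, h1 _ hr1 _ ht', C.chi_rp R.nsys hg hr0 ht.1, ← es, hval i s hs, ← vec_simple hp j,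
          hval i _ (simple_lt hp.inList (lt_rank hp j))] at h5
        have h6 : ζ ^ D.cartan i s = ζ ^ D.cartan i (D.simple j) := Units.ext h5
        rw [← hζ]
        exact orderOf_dvd_sub_iff_zpow_eq_zpow.2 h6
      have h8 := hsW j hj s hs h3
      rw [h8, vec_simple hp j] at es
      have h9 := congrArg (rep cs hp.isCartan v) es
      rw [rep_apply_inv] at h9
      exact h9.symm
    have h9 : ∀ i, rep cs hp.isCartan w (sr i) = sr i := by
      intro i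
      have hone : ∀ j ∈ J0, rep cs hp.isCartan w (sr j) = sr j := by
        intro j hj
        have h3 := h2 j hj 1
        rwa [map_one, Module.End.one_apply] at h3
      rcases hJ0 i with hi | ⟨j, hj, hij⟩
      · exact hone i hi
      · have e : rep cs hp.isCartan (cs.simple i) (sr j) = sr j + sr i := by
          rw [rep_simple_eq]
          have e1 : pairing (cartanOf D l) i (sr j) = -1 := by rw [sr, pairing_single, hij]; rfl
          rw [e1, neg_one_smul, sub_neg_eq_add]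
        have h10 := h2 j hj (cs.simple i)
        rw [e, map_add, hone j hj] at h10
        exact add_left_cancel h10
    by_contra hw1
    obtain ⟨i, hi⟩ := cs.exists_rightDescent_of_ne_one hw1
    have h11 : rep cs hp.isCartan w (sr i) ≤ 0 := nonpos_of_lt cs hp.isCartan w i hi
    rw [h9 i] at h11
    have h12 : (1 : ℤ) ≤ 0 := by
      have h13 := h11 i
      rwa [sr_self] at h13
    exact absurd h12 (by decide)

include hp in
/-- **the row, `p ∣ q - 1`, even rank** -/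
theorem rowA_d1 [Fintype K] [Fintype ↥(D.group K)] (h0 : 0 < l) (hev : Even l)
    (hconn : ∀ E : Finset (Fin l), E ≠ ∅ → E ≠ Finset.univ → ∃ x : Fin l × Fin l, x.1 ∈ E ∧ x.2 ∉ E ∧ M x.1 x.2 ≠ 2)
    {p : ℕ} [hpp : Fact p.Prime] (hd : p ∣ Fintype.card K - 1)
    (hsU : ∀ s < D.nroots, ∃ i : Fin l, ¬ (p : ℤ) ∣ D.cartan i s) (J0 : Set (Fin l))
    (hsW : ∀ j ∈ J0, ∀ s < D.nroots, (∀ i : Fin l, (p : ℤ) ∣ D.cartan i s - D.cartan i (D.simple j)) → s = D.simple j)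
    (hJ0 : ∀ i, i ∈ J0 ∨ ∃ j ∈ J0, cartanOf D l i j = -1) : RowA p ↥(D.group K) := by
  classical
  obtain ⟨r, hr⟩ := CharP.exists K
  have hrp : Fact r.Prime := ⟨(CharP.char_is_prime_or_zero K r).resolve_right (CharP.char_ne_zero_of_finite K r)⟩
  have hW := finite_W hp M.toCoxeterSystem
  have hd' : p ∣ Nat.card Kˣ := by
    rw [Nat.card_units, Nat.card_eq_fintype_card]
    exact hd
  have : Nonempty (Fin l) := ⟨⟨0, h0⟩⟩
  refine rowA_st_torus (rgd (K := K) hp M.toCoxeterSystem r) (GG_eq_top hp K _) ?_ (by rwa [Fintype.card_fin])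
    isPGroup_tp tp_le (fun v k hk q hq => tp_conj hk hq) (centralizer_tp hp K M.toCoxeterSystem (r := r) hd' hsU J0 hsW hJ0)
  intro E hE hE'
  obtain ⟨⟨i, j⟩, hi, hj, hij⟩ := hconn (Set.toFinset E)
    (by rw [Ne, Set.toFinset_eq_empty]; exact hE.ne_empty)
    (by
      rw [Ne, Set.toFinset_eq_univ]
      rintro rfl
      rw [Set.compl_univ] at hE'
      exact Set.not_nonempty_empty hE')
  dsimp only at hi hj hij
  rw [Set.mem_toFinset] at hi hj
  exact ⟨i, hi, j, hj, hij⟩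

end Chev

/-! ### The finite checks -/

theorem not_dvd_of_gcd {p : ℕ} (hpp : p.Prime) (hp2 : p ≠ 2) {a b : ℤ} (hg : Nat.gcd a.natAbs b.natAbs ∣ 4) :
    ¬ (p : ℤ) ∣ a ∨ ¬ (p : ℤ) ∣ b := by
  by_contra hcon
  push Not at hcon
  have h1 : p ∣ Nat.gcd a.natAbs b.natAbs :=
    Nat.dvd_gcd (Int.natCast_dvd.1 hcon.1) (Int.natCast_dvd.1 hcon.2)
  have h2 : p ∣ 2 ^ 2 := h1.trans hg
  exact hp2 ((Nat.prime_dvd_prime_iff_eq hpp Nat.prime_two).1 (hpp.dvd_of_dvd_pow h2))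

section Sep

variable {D : ChevalleyDatum} {l N : ℕ} (hN : D.nroots = N) {p : ℕ} (hpp : p.Prime) (hp2 : p ≠ 2)

include hN hpp hp2 in
theorem sepU (h : ∀ s : Fin N, ∃ i i' : Fin l, Nat.gcd (D.cartan i s).natAbs (D.cartan i' s).natAbs ∣ 4) :
    ∀ s < D.nroots, ∃ i : Fin l, ¬ (p : ℤ) ∣ D.cartan i s := by
  intro s hs
  obtain ⟨i, i', hi⟩ := h ⟨s, hN ▸ hs⟩
  rcases not_dvd_of_gcd hpp hp2 hi with h1 | h1
  · exact ⟨i, h1⟩
  · exact ⟨i', h1⟩

include hN hpp hp2 in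
theorem sepW {j : Fin l} (h : ∀ s : Fin N, (s : ℕ) = D.simple j ∨ ∃ i i' : Fin l,
    Nat.gcd (D.cartan i s - D.cartan i (D.simple j)).natAbs (D.cartan i' s - D.cartan i' (D.simple j)).natAbs ∣ 4) :
    ∀ s < D.nroots, (∀ i : Fin l, (p : ℤ) ∣ D.cartan i s - D.cartan i (D.simple j)) → s = D.simple j := by
  intro s hs hall
  rcases h ⟨s, hN ▸ hs⟩ with h1 | ⟨i, i', hi⟩
  · exact h1
  · rcases not_dvd_of_gcd hpp hp2 hi with h1 | h1
    · exact absurd (hall i) h1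
    · exact absurd (hall i') h1

end Sep

theorem uG2 : ∀ s : Fin 12, ∃ i i' : Fin 2, Nat.gcd (chevG2.cartan i s).natAbs (chevG2.cartan i' s).natAbs ∣ 4 := by
  decide +kernel
theorem uF4 : ∀ s : Fin 48, ∃ i i' : Fin 4, Nat.gcd (chevF4.cartan i s).natAbs (chevF4.cartan i' s).natAbs ∣ 4 := by
  decide +kernel
theorem uE6 : ∀ s : Fin 72, ∃ i i' : Fin 6, Nat.gcd (chevE6.cartan i s).natAbs (chevE6.cartan i' s).natAbs ∣ 4 := by
  decide +kernel
theorem uE7 : ∀ s : Fin 126, ∃ i i' : Fin 7, Nat.gcd (chevE7.cartan i s).natAbs (chevE7.cartan i' s).natAbs ∣ 4 := by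
  decide +kernel
theorem uE8 : ∀ s : Fin 240, ∃ i i' : Fin 8, Nat.gcd (chevE8.cartan i s).natAbs (chevE8.cartan i' s).natAbs ∣ 4 := by
  decide +kernel

theorem wG2 : ∀ s : Fin 12, (s : ℕ) = chevG2.simple (0 : Fin 2) ∨ ∃ i i' : Fin 2,
    Nat.gcd (chevG2.cartan i s - chevG2.cartan i (chevG2.simple (0 : Fin 2))).natAbs
      (chevG2.cartan i' s - chevG2.cartan i' (chevG2.simple (0 : Fin 2))).natAbs ∣ 4 := by decide +kernel
theorem wF4 : ∀ (j : Fin 4) (s : Fin 48), (s : ℕ) = chevF4.simple j ∨ ∃ i i' : Fin 4,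
    Nat.gcd (chevF4.cartan i s - chevF4.cartan i (chevF4.simple j)).natAbs
      (chevF4.cartan i' s - chevF4.cartan i' (chevF4.simple j)).natAbs ∣ 4 := by decide +kernel
theorem wE6 : ∀ (j : Fin 6) (s : Fin 72), (s : ℕ) = chevE6.simple j ∨ ∃ i i' : Fin 6,
    Nat.gcd (chevE6.cartan i s - chevE6.cartan i (chevE6.simple j)).natAbs
      (chevE6.cartan i' s - chevE6.cartan i' (chevE6.simple j)).natAbs ∣ 4 := by decide +kernel
theorem wE7 : ∀ (j : Fin 7) (s : Fin 126), (s : ℕ) = chevE7.simple j ∨ ∃ i i' : Fin 7,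
    Nat.gcd (chevE7.cartan i s - chevE7.cartan i (chevE7.simple j)).natAbs
      (chevE7.cartan i' s - chevE7.cartan i' (chevE7.simple j)).natAbs ∣ 4 := by decide +kernel
theorem wE8 : ∀ (j : Fin 8) (s : Fin 240), (s : ℕ) = chevE8.simple j ∨ ∃ i i' : Fin 8,
    Nat.gcd (chevE8.cartan i s - chevE8.cartan i (chevE8.simple j)).natAbs
      (chevE8.cartan i' s - chevE8.cartan i' (chevE8.simple j)).natAbs ∣ 4 := by decide +kernel

theorem typeG2 : IsType chevG2 2 CoxeterMatrix.G₂ := by simp [IsType, typeList]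

section Rows

variable (K : Type u) [Field K] [Fintype K] {p : ℕ} [hpp : Fact p.Prime] (hp2 : p ≠ 2) (hd : p ∣ Fintype.card K - 1)

include hp2 hd

/-- **`G₂(q)`, `p ∣ q - 1`** -/
theorem rowA_d1_G2 [Fintype ↥(chevG2.group K)] : RowA p ↥(chevG2.group K) := by
  refine rowA_d1 typeG2 K (by decide) (by decide) (by decide +kernel) hd (sepU (N := 12) rfl hpp.out hp2 uG2) {0} ?_ ?_
  · rintro j rfl
    exact sepW (N := 12) rfl hpp.out hp2 wG2
  · intro i
    fin_cases i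
    · exact Or.inl rfl
    · exact Or.inr ⟨0, rfl, by decide +kernel⟩

/-- **`F₄(q)`, `p ∣ q - 1`** -/
theorem rowA_d1_F4 [Fintype ↥(chevF4.group K)] : RowA p ↥(chevF4.group K) :=
  rowA_d1 hpF4 K (by decide) (by decide) (by decide +kernel) hd (sepU (N := 48) rfl hpp.out hp2 uF4) Set.univ
    (fun j _ => sepW (N := 48) rfl hpp.out hp2 (wF4 j)) (fun i => Or.inl (Set.mem_univ i))

/-- **`E₆(q)`, `p ∣ q - 1`** -/
theorem rowA_d1_E6 [Fintype ↥(chevE6.group K)] : RowA p ↥(chevE6.group K) :=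
  rowA_d1 hpE6 K (by decide) (by decide) (by decide +kernel) hd (sepU (N := 72) rfl hpp.out hp2 uE6) Set.univ
    (fun j _ => sepW (N := 72) rfl hpp.out hp2 (wE6 j)) (fun i => Or.inl (Set.mem_univ i))

/-- **`E₈(q)`, `p ∣ q - 1`** -/
theorem rowA_d1_E8 [Fintype ↥(chevE8.group K)] : RowA p ↥(chevE8.group K) :=
  rowA_d1 hpE8 K (by decide) (by decide) (by decide +kernel) hd (sepU (N := 240) rfl hpp.out hp2 uE8) Set.univ
    (fun j _ => sepW (N := 240) rfl hpp.out hp2 (wE8 j)) (fun i => Or.inl (Set.mem_univ i))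

/-- **`E₇(q)`, `p ∣ q - 1`**: the `p`-part of the torus is regular -/
theorem tor_E7 {r : ℕ} [Fact r.Prime] [CharP K r] :
    Subgroup.centralizer (tp (TT chevE7 K) (hT_chev hpE7 K) p : Set ↥(chevE7.group K)) ≤ TT chevE7 K := by
  have hW := finite_W hpE7 CoxeterMatrix.E₇.toCoxeterSystem
  refine centralizer_tp hpE7 K CoxeterMatrix.E₇.toCoxeterSystem (r := r) ?_ (sepU (N := 126) rfl hpp.out hp2 uE7) Set.univ
    (fun j _ => sepW (N := 126) rfl hpp.out hp2 (wE7 j)) (fun i => Or.inl (Set.mem_univ i))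
  rw [Nat.card_units, Nat.card_eq_fintype_card]
  exact hd

end Rows

end Cfsg.Agent.H726.CY
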